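import Groth.Agent.Pi1Ext.QFCodimOne
import Groth.Agent.Pi1Ext.EtalePure
import Groth.Agent.S0248
import Groth.Agent.S9560
import Groth.Agent.RegLoc6.RegEtale
import Groth.Agent.RegLoc6.Serre
import Groth.Agent.RegLoc6.Normal
import Groth.Agent.H1N0.Basic
import Groth.Agent.DimFormula.DedekindFlat
import Groth.Agent.Triage.CMMor
import Mathlib

/-!
Purity of the branch locus: finite over regular, normal, unramified in codimension one.
-/

set_option autoImplicit false
set_option linter.style.haveILetI false
set_option maxHeartbeats 1600000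
set_option synthInstance.maxHeartbeats 400000
universe u

open TensorProduct

namespace Groth.Agent.Pi1Ext.BranchPurity

attribute [local instance] Algebra.TensorProduct.rightAlgebra

theorem height_le_under_of_qf {R S : Type u} [CommRing R] [CommRing S] [Algebra R S] [IsNoetherianRing R]
    (Q : PrimeSpectrum S) [hQ : Algebra.QuasiFiniteAt R Q.asIdeal] : Q.asIdeal.height ≤ (Q.asIdeal.under R).height := by
  let φ : {x : PrimeSpectrum S // x ≤ Q} → PrimeSpectrum R := fun x => PrimeSpectrum.comap (algebraMap R S) x.1
  have hφ : StrictMono φ := fun a b hab => by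
    have hab' : a.1.asIdeal < b.1.asIdeal := hab
    haveI : Algebra.QuasiFiniteAt R b.1.asIdeal := Algebra.QuasiFiniteAt.of_le (Q := Q.asIdeal) b.2
    exact lt_of_le_of_ne (Ideal.comap_mono hab'.le)
      fun h => hab'.ne (Algebra.QuasiFiniteAt.eq_of_le_of_under_eq (R := R) hab'.le (congrArg PrimeSpectrum.asIdeal h))
  have h := Order.height_le_height_apply_of_strictMono φ hφ ⟨Q, le_rfl⟩
  rw [PrimeSpectrum.height_eq_orderHeight]
  have hQQ : Order.height (⟨Q, le_rfl⟩ : {x : PrimeSpectrum S // x ≤ Q}) = Order.height Q := by
    refine le_antisymm (Order.height_le_height_apply_of_strictMono Subtype.val (fun _ _ h => h) _) ?_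
    refine Order.height_le fun l hl => ?_
    let l' : LTSeries {x : PrimeSpectrum S // x ≤ Q} :=
      { length := l.length
        toFun := fun i => ⟨l i, hl ▸ l.monotone (Fin.le_last i)⟩
        step := fun i => l.step i }
    exact Order.length_le_height (p := l') (le_of_eq (Subtype.ext hl))
  rw [hQQ] at h
  refine h.trans (le_of_eq ?_)
  exact (PrimeSpectrum.height_eq_orderHeight (φ ⟨Q, le_rfl⟩)).symm

theorem height_under_le_of_flat {R S : Type u} [CommRing R] [CommRing S] [Algebra R S] [IsNoetherianRing R]
    [IsNoetherianRing S]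
    [Module.Flat R S] (Q : Ideal S) [Q.IsPrime] : (Q.under R).height ≤ Q.height :=
  (Ideal.height_eq_height_add_of_liesOver_of_hasGoingDown (Q.under R) Q).symm ▸ le_self_add

/-- Purity for finite normal algebras over regular local rings. -/
theorem etale_of_finite_normal (A D : Type u) [CommRing A] [IsRegularLocalRing A] [CommRing D] [IsDomain D]
    [IsIntegrallyClosed D] [Algebra A D] [Module.Finite A D] (hinj : Function.Injective (algebraMap A D))
    (hA : (1 : WithBot ℕ∞) ≤ ringKrullDim A)
    (h : ∀ Q : PrimeSpectrum D, Q.asIdeal.height = 1 → Q ∉ Module.support D Ω[D⁄A]) :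
    Algebra.Etale A D := by
  haveI := Groth.Agent.RegLoc6.isDomain_of_isRegularLocalRing A
  haveI : Algebra.FinitePresentation A D := Algebra.FinitePresentation.of_finiteType.mp inferInstance
  haveI : IsNoetherianRing D := Algebra.FiniteType.isNoetherianRing A D
  haveI : FaithfulSMul A D := (faithfulSMul_iff_algebraMap_injective A D).2 hinj
  rw [← Algebra.etaleLocus_eq_univ_iff_etale, Set.eq_univ_iff_forall]
  suffices ∀ r : PrimeSpectrum A, ∀ Q : PrimeSpectrum D,
      PrimeSpectrum.comap (algebraMap A D) Q = r → Algebra.IsEtaleAt A Q.asIdeal from fun Q => this _ Q rfl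
  intro r
  induction r using WellFounded.induction
    (InvImage.wf (fun p : PrimeSpectrum A => p.asIdeal.height) wellFounded_lt) with
  | h r ih =>
    let Ar := Localization.AtPrime r.asIdeal
    let M := Algebra.algebraMapSubmonoid D r.asIdeal.primeCompl
    have hM : M ≤ nonZeroDivisors D := by
      rintro _ ⟨a, ha, rfl⟩
      exact mem_nonZeroDivisors_of_ne_zero ((map_ne_zero_iff _ hinj).2 fun h0 => ha (by rw [h0]; exact r.asIdeal.zero_mem))
    let Dr := Localization M
    haveI : IsRegularLocalRing Ar := Groth.Agent.RegLoc6.isRegularLocalRing_localization A r.asIdeal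
    haveI : IsDomain Ar := IsLocalization.isDomain_localization r.asIdeal.primeCompl_le_nonZeroDivisors
    haveI : IsDomain Dr := IsLocalization.isDomain_localization hM
    haveI : IsIntegrallyClosed Dr := isIntegrallyClosed_of_isLocalization Dr M hM
    letI : Algebra Ar Dr := localizationAlgebra r.asIdeal.primeCompl D
    haveI : Module.Finite Ar Dr := Module.Finite.of_isLocalization A D r.asIdeal.primeCompl
    haveI : Algebra.FinitePresentation Ar Dr := Algebra.FinitePresentation.of_finiteType.mp inferInstance
    have hinjr : Function.Injective (algebraMap Ar Dr) :=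
      localizationAlgebra_injective (Rₘ := Ar) (Sₘ := Dr) (M := r.asIdeal.primeCompl) hinj
    have hunder : ∀ q' : PrimeSpectrum Dr, (q'.asIdeal.comap (algebraMap D Dr)).comap (algebraMap A D) =
        (q'.asIdeal.comap (algebraMap Ar Dr)).comap (algebraMap A Ar) := fun q' => by
      rw [Ideal.comap_comap, Ideal.comap_comap, ← IsScalarTower.algebraMap_eq, ← IsScalarTower.algebraMap_eq]
    have hlow : ∀ q' : PrimeSpectrum Dr, q'.asIdeal.comap (algebraMap Ar Dr) ≠ IsLocalRing.maximalIdeal Ar →
        Algebra.IsEtaleAt Ar q'.asIdeal := fun q' hq' => by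
      rw [formallyEtale_atPrime_comp (A := A) (B := D) r.asIdeal.primeCompl]
      refine ih ⟨(q'.asIdeal.comap (algebraMap Ar Dr)).comap (algebraMap A Ar), inferInstance⟩ ?_
        ⟨q'.asIdeal.comap (algebraMap D Dr), inferInstance⟩ (PrimeSpectrum.ext (hunder q'))
      refine Ideal.height_strict_mono_of_isPrime (lt_of_le_of_ne ?_ fun e => hq' ?_)
      · exact (Ideal.comap_mono (IsLocalRing.le_maximalIdeal (Ideal.IsPrime.ne_top inferInstance))).trans_eq
          (Localization.AtPrime.under_maximalIdeal (I := r.asIdeal))
      · rw [← IsLocalization.map_comap r.asIdeal.primeCompl Ar (q'.asIdeal.comap (algebraMap Ar Dr))]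
        rw [show Ideal.under A (q'.asIdeal.comap (algebraMap Ar Dr)) = r.asIdeal from e]
        exact Localization.AtPrime.map_eq_maximalIdeal
    haveI hetr : Algebra.Etale Ar Dr := by
      by_cases h2 : (2 : WithBot ℕ∞) ≤ ringKrullDim Ar
      · exact Groth.Agent.S0248.result Ar Dr h2 hinjr fun q hq hne => hlow ⟨q, hq⟩ hne
      have hr1 : r.asIdeal.height ≤ 1 := by
        rw [IsLocalization.AtPrime.ringKrullDim_eq_height r.asIdeal Ar] at h2
        by_contra hc
        exact h2 (WithBot.coe_le_coe.2 (Order.add_one_le_of_lt (not_le.1 hc)))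
      haveI : IsPrincipalIdealRing Ar := Groth.Agent.DimFormula.isPrincipalIdealRing_of_regular_dim_le_one (by
        rw [IsLocalization.AtPrime.ringKrullDim_eq_height r.asIdeal Ar]
        exact WithBot.coe_le_coe.2 hr1)
      haveI : FaithfulSMul Ar Dr := (faithfulSMul_iff_algebraMap_injective Ar Dr).2 hinjr
      haveI : Module.IsTorsionFree Ar Dr := Module.isTorsionFree_iff_algebraMap_injective.2 hinjr
      haveI : Module.Flat Ar Dr := inferInstance
      rw [← Algebra.etaleLocus_eq_univ_iff_etale, Set.eq_univ_iff_forall]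
      intro q'
      have hnot : (⟨q'.asIdeal.comap (algebraMap D Dr), inferInstance⟩ : PrimeSpectrum D) ∉ Module.support D Ω[D⁄A] := by
        intro hmem
        let Q : PrimeSpectrum D := ⟨q'.asIdeal.comap (algebraMap D Dr), inferInstance⟩
        have hle : Q.asIdeal.height ≤ 1 := by
          refine (height_le_under_of_qf (R := A) Q).trans (le_trans ?_ hr1)
          refine Ideal.height_mono ?_
          rw [show Q.asIdeal.under A = (q'.asIdeal.comap (algebraMap Ar Dr)).comap (algebraMap A Ar) from hunder q']
          exact (Ideal.comap_mono (IsLocalRing.le_maximalIdeal (Ideal.IsPrime.ne_top inferInstance))).trans_eq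
            (Localization.AtPrime.under_maximalIdeal (I := r.asIdeal))
        by_cases h0 : Q.asIdeal = ⊥
        · -- the generic point: a height one prime lies above it
          have hne : ¬ IsField D := fun hf => by
            have hA0 : IsField A := isField_of_isIntegral_of_isField hinj hf
            rw [ringKrullDim_eq_zero_of_isField hA0] at hA
            exact absurd hA (by decide)
          obtain ⟨m, hm0, hm1⟩ := (Ring.not_isField_iff_exists_ideal_bot_lt_and_lt_top).1 hne
          obtain ⟨t, htm, ht0⟩ := Submodule.exists_mem_ne_zero_of_ne_bot hm0.ne'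
          obtain ⟨m', hm', hmm'⟩ := Ideal.exists_le_maximal m hm1.ne
          obtain ⟨Q₁, hQ₁, -⟩ := Ideal.exists_minimalPrimes_le (J := m')
            ((Ideal.span_singleton_le_iff_mem m').2 (hmm' htm))
          haveI := hQ₁.1.1
          have h1 : Q₁.height = 1 := le_antisymm (Ideal.height_le_one_of_isPrincipal_of_mem_minimalPrimes _ Q₁ hQ₁) (by
            rw [Order.one_le_iff_ne_zero, Ne, Ideal.height_eq_zero_iff_eq_bot]
            exact fun hb => ht0 (Ideal.mem_bot.1 (hb ▸ hQ₁.1.2 (Ideal.mem_span_singleton_self t))))
          exact h ⟨Q₁, inferInstance⟩ h1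
            (Module.mem_support_mono (show Q ≤ ⟨Q₁, inferInstance⟩ from h0.trans_le bot_le) hmem)
        · refine h Q (le_antisymm hle ?_) hmem
          rw [Order.one_le_iff_ne_zero, Ne, Ideal.height_eq_zero_iff_eq_bot]
          exact h0
      haveI : Algebra.IsPushout A Ar D Dr := (Algebra.isPushout_of_isLocalization r.asIdeal.primeCompl Ar D Dr).symm
      have hq'mem : q' ∈ Algebra.unramifiedLocus Ar Dr := by
        rw [Algebra.unramifiedLocus_eq_compl_support, Set.mem_compl_iff,
          QFCodimOne.mem_support_pushout A Ar D Dr q']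
        exact hnot
      haveI : Algebra.IsUnramifiedAt Ar q'.asIdeal := hq'mem
      exact Algebra.IsEtaleAt.of_isUnramifiedAt_of_flat q'.asIdeal
    intro Q hQ
    have hdisj : Disjoint (M : Set D) (Q.asIdeal : Set D) := by
      rw [Set.disjoint_left]
      rintro _ ⟨a, ha, rfl⟩ hm
      exact ha (by rw [← hQ]; exact hm)
    haveI := IsLocalization.isPrime_of_isPrime_disjoint M Dr Q.asIdeal Q.2 hdisj
    have hh := (formallyEtale_atPrime_comp (A := A) (B := D) (A' := Ar) r.asIdeal.primeCompl
      (Q.asIdeal.map (algebraMap D Dr))).mp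
        (Set.eq_univ_iff_forall.mp ((Algebra.etaleLocus_eq_univ_iff_etale (R := Ar) (A := Dr)).mpr hetr)
          ⟨Q.asIdeal.map (algebraMap D Dr), inferInstance⟩)
    have e := IsLocalization.comap_map_of_isPrime_disjoint M Dr Q.2 hdisj
    simp only [e] at hh
    exact hh

/-- Purity of the branch locus for algebras of finite type. -/
theorem isEtaleAt_of_codim_one {R S : Type u} [CommRing R] [CommRing S] [Algebra R S] [IsNoetherianRing R]
    [Algebra.FiniteType R S] (q : PrimeSpectrum S) [Algebra.QuasiFiniteAt R q.asIdeal]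
    (hreg : IsRegularLocalRing (Localization.AtPrime (q.asIdeal.under R)))
    (hnor : RegLoc6.NormalAt S q.asIdeal) (hht : q.asIdeal.height = (q.asIdeal.under R).height)
    (hq : 1 ≤ q.asIdeal.height)
    (h : ∀ q₁ : PrimeSpectrum S, q₁.asIdeal ≤ q.asIdeal → q₁.asIdeal.height = 1 → q₁ ∉ Module.support S Ω[S⁄R]) :
    Algebra.IsEtaleAt R q.asIdeal := by
  haveI : IsNoetherianRing S := Algebra.FiniteType.isNoetherianRing R S
  let p := q.asIdeal.under R
  obtain ⟨R', _, _, _, P, _, _, e, he, P', _, hP'P, hP'q, heP', -, hfin, huniq⟩ :=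
    Algebra.exists_etale_isIdempotentElem_forall_liesOver_eq (R := R) (S := S) p q.asIdeal
  haveI := hfin
  haveI : IsNoetherianRing R' := Algebra.FiniteType.isNoetherianRing R R'
  haveI : Algebra.QuasiFinite R R' := inferInstance
  haveI : Module.Flat R R' := Algebra.Smooth.flat R R'
  let B := R' ⊗[R] S
  haveI : IsNoetherianRing B := Algebra.FiniteType.isNoetherianRing R' B
  haveI : Algebra.Etale S B := Algebra.Etale.of_equiv (A := S ⊗[R] R') (B := B)
    { (Algebra.TensorProduct.comm R S R').toRingEquiv with commutes' := fun _ => rfl }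
  haveI : Algebra.QuasiFinite S B := inferInstance
  haveI : Module.Flat S B := Algebra.Smooth.flat S B
  let T := Localization.Away e
  haveI : Algebra.FormallyEtale B T := Algebra.FormallyEtale.of_isLocalization (Submonoid.powers e)
  have hPp : P.under R = p := (‹P.LiesOver p›).over.symm
  have hPreg : IsRegularLocalRing (Localization.AtPrime P) := by
    refine RegLoc6.regular_of_etale (A := R) P ?_
    rw! [hPp]
    exact hreg
  let A := Localization.AtPrime P
  haveI : IsRegularLocalRing A := hPreg
  haveI := Groth.Agent.RegLoc6.isDomain_of_isRegularLocalRing A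
  have hPht : P.height = p.height := by
    refine le_antisymm ((height_le_under_of_qf (R := R) ⟨P, inferInstance⟩).trans_eq ?_)
      (le_of_eq_of_le ?_ (height_under_le_of_flat (R := R) P))
    · show (P.under R).height = _
      rw [hPp]
    · rw [hPp]
  have hP'ht : P'.height = q.asIdeal.height := by
    refine le_antisymm ((height_le_under_of_qf (R := S) ⟨P', inferInstance⟩).trans_eq ?_)
      (le_of_eq_of_le ?_ (height_under_le_of_flat (R := S) P'))
    · show (P'.comap (algebraMap S B)).height = _
      exact congrArg Ideal.height hP'q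
    · exact congrArg Ideal.height hP'q.symm
  -- the local ring upstairs
  let D := Localization.AtPrime P'
  have hDnor : RegLoc6.NormalAt B P' := H1N0.normal_of_etale (A := S) P' (by
    have : P'.under S = q.asIdeal := hP'q
    rw! [this]
    exact hnor)
  haveI : IsDomain D := hDnor.1
  haveI : IsIntegrallyClosed D := hDnor.2
  have hP : P'.under R' = P := hP'P.over.symm
  let ℓ : A →ₐ[R'] D := IsLocalization.liftAlgHom (M := P.primeCompl) (f := Algebra.ofId R' D) fun x => by
    show IsUnit (algebraMap R' D x.1)
    rw [IsScalarTower.algebraMap_apply R' B D]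
    exact IsLocalization.map_units D (⟨algebraMap R' B x.1, fun hm => x.2 (hP.le hm)⟩ : P'.primeCompl)
  letI : Algebra A D := ℓ.toRingHom.toAlgebra
  haveI : IsScalarTower R' A D := IsScalarTower.of_algebraMap_eq fun x => (ℓ.commutes x).symm
  let t : T →ₐ[R'] D := IsLocalization.liftAlgHom (M := Submonoid.powers e) (f := IsScalarTower.toAlgHom R' B D) fun x => by
    obtain ⟨n, hn⟩ := x.2
    show IsUnit (algebraMap B D x.1)
    rw [← hn]
    simp only [map_pow]
    exact (IsLocalization.map_units D (⟨e, heP'⟩ : P'.primeCompl)).pow n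
  have ht : ∀ b, t (algebraMap B T b) = algebraMap B D b := fun b => IsLocalization.lift_eq _ b
  let T' := A ⊗[R'] T
  let ψ : T' →ₐ[A] D := Algebra.TensorProduct.lift (Algebra.ofId A D) t fun _ _ => Commute.all _ _
  have hψ : ∀ b, ψ ((1 : A) ⊗ₜ[R'] algebraMap B T b) = algebraMap B D b := fun b => by
    simp only [ψ]
    rw [Algebra.TensorProduct.lift_tmul, map_one, one_mul, ht]
  haveI : Module.Finite A T' := inferInstance
  have hunit : ∀ s : B, s ∉ P' → IsUnit ((1 : A) ⊗ₜ[R'] algebraMap B T s : T') := fun s hs => by
    by_contra hu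
    obtain ⟨m, hm, hsm⟩ := exists_max_ideal_of_mem_nonunits hu
    have hmA : (m.comap (algebraMap A T')).IsMaximal := Ideal.isMaximal_comap_of_isIntegral_of_isMaximal m
    let M₀ := (m.comap (Algebra.TensorProduct.includeRight : T →ₐ[R'] T').toRingHom).comap (algebraMap B T)
    have hM : M₀.under R' = P := by
      rw [← Localization.AtPrime.under_maximalIdeal (I := P), ← IsLocalRing.eq_maximalIdeal hmA]
      show ((m.comap (Algebra.TensorProduct.includeRight : T →ₐ[R'] T').toRingHom).comap (algebraMap B T)).comap
        (algebraMap R' B) = (m.comap (algebraMap A T')).comap (algebraMap R' A)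
      rw [Ideal.comap_comap, Ideal.comap_comap, Ideal.comap_comap,
        ← IsScalarTower.algebraMap_eq R' B T, ← IsScalarTower.algebraMap_eq R' A T']
      exact congrArg (Ideal.comap · m) (Algebra.TensorProduct.includeRight : T →ₐ[R'] T').comp_algebraMap
    have hM' : M₀ = P' := huniq M₀ inferInstance ⟨hM.symm⟩ fun hem =>
      hm.ne_top (Ideal.eq_top_of_isUnit_mem _ hem ((IsLocalization.Away.algebraMap_isUnit e).map
        (Algebra.TensorProduct.includeRight : T →ₐ[R'] T')))
    exact hs (hM' ▸ hsm)
  have hψsurj : Function.Surjective ψ := fun d => by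
    obtain ⟨b, s, rfl⟩ := IsLocalization.exists_mk'_eq P'.primeCompl d
    refine ⟨(1 : A) ⊗ₜ[R'] algebraMap B T b * ↑(hunit s.1 s.2).unit⁻¹, ?_⟩
    refine (IsLocalization.map_units D s).mul_right_cancel ?_
    have h1 : ψ ↑(hunit s.1 s.2).unit⁻¹ * algebraMap B D s = 1 := by
      rw [← hψ, ← map_mul, IsUnit.val_inv_mul, map_one]
    rw [IsLocalization.mk'_spec, map_mul, mul_assoc, h1, mul_one, hψ]
  haveI : Module.Finite A D := Module.Finite.of_surjective ψ.toLinearMap hψsurj
  haveI : Algebra.FiniteType R' B := inferInstance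
  have hdimA : ringKrullDim A = (q.asIdeal.height : WithBot ℕ∞) := by
    rw [IsLocalization.AtPrime.ringKrullDim_eq_height P A, hPht, hht]
  have hinj : Function.Injective (algebraMap A D) := by
    rw [RingHom.injective_iff_ker_eq_bot]
    by_contra hne
    let K := RingHom.ker (algebraMap A D)
    haveI : K.IsPrime := RingHom.ker_isPrime _
    have key : ∀ n : ℕ, ∀ Q : PrimeSpectrum D, Q.asIdeal.height ≤ n →
        Q.asIdeal.height + 1 ≤ (Q.asIdeal.comap (algebraMap A D)).height := by
      intro n
      induction n with
      | zero =>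
        intro Q hQ
        rw [nonpos_iff_eq_zero.1 hQ, zero_add, Order.one_le_iff_ne_zero, Ne, Ideal.height_eq_zero_iff_eq_bot]
        exact fun hb => hne (eq_bot_iff.2 (le_trans (fun x hx => by
          show algebraMap A D x ∈ Q.asIdeal
          rw [hx]; exact zero_mem _) hb.le))
      | succ n ih =>
        intro Q hQ
        by_cases hQn : Q.asIdeal.height ≤ n
        · exact ih Q hQn
        obtain ⟨Q', hQ', hlt, hge⟩ : ∃ Q' : Ideal D, Q'.IsPrime ∧ Q' < Q.asIdeal ∧ (n : ℕ∞) ≤ Q'.height := by
          by_contra hc
          push_neg at hc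
          exact hQn ((Ideal.height_le_iff (p := Q.asIdeal) (n := n)).2 fun Q' hQ' hlt => hc Q' hQ' hlt)
        haveI := hQ'
        have hQ'n : Q'.height ≤ n := by
          have := (Ideal.height_le_iff (p := Q.asIdeal) (n := n + 1)).1 hQ Q' hQ' hlt
          exact_mod_cast Order.le_of_lt_add_one this
        have h1 := ih ⟨Q', hQ'⟩ hQ'n
        have h2 : (Q'.comap (algebraMap A D)).height < (Q.asIdeal.comap (algebraMap A D)).height :=
          Ideal.height_strict_mono_of_isPrime (Ideal.IsIntegral.comap_lt_comap hlt)
        calc Q.asIdeal.height + 1 ≤ ((n : ℕ∞) + 1) + 1 := by gcongr; exact_mod_cast hQ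
          _ ≤ (Q'.comap (algebraMap A D)).height + 1 := by
              gcongr
              exact le_trans (by gcongr) h1
          _ ≤ _ := Order.add_one_le_of_lt h2
    haveI : FiniteRingKrullDim A := inferInstance
    obtain ⟨n, hn⟩ := ENat.ne_top_iff_exists.1 (Ideal.height_ne_top (I := P') (Ideal.IsPrime.ne_top inferInstance))
    have hmx : (IsLocalRing.maximalIdeal D).height = P'.height := by
      have := IsLocalization.AtPrime.ringKrullDim_eq_height P' D
      rw [← IsLocalRing.maximalIdeal_height_eq_ringKrullDim] at this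
      exact WithBot.coe_injective this
    have h1 := key n ⟨IsLocalRing.maximalIdeal D, inferInstance⟩ (by rw [hmx]; exact hn.ge)
    have h2 : ((IsLocalRing.maximalIdeal D).comap (algebraMap A D)).height ≤ q.asIdeal.height := by
      refine WithBot.coe_le_coe.1 ((Ideal.height_le_ringKrullDim_of_ne_top
        (Ideal.IsPrime.ne_top inferInstance)).trans_eq hdimA)
    have h3 := h1.trans h2
    rw [hmx, hP'ht] at h3
    exact absurd h3 (not_le.2 ((ENat.lt_add_one_iff (by rw [← hP'ht]; exact Ideal.height_ne_top (Ideal.IsPrime.ne_top inferInstance))).2 le_rfl))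
  haveI : Algebra.FormallyEtale B D := Algebra.FormallyEtale.of_isLocalization P'.primeCompl
  haveI : Algebra.FormallyEtale R' A := Algebra.FormallyEtale.of_isLocalization P.primeCompl
  have hsupp : ∀ Q : PrimeSpectrum D, Q ∈ Module.support D Ω[D⁄A] →
      PrimeSpectrum.comap (algebraMap S B) (PrimeSpectrum.comap (algebraMap B D) Q) ∈ Module.support S Ω[S⁄R] := fun Q hQ => by
    have h1 : Q ∈ Module.support D Ω[D⁄R'] :=
      Module.support_subset_of_surjective _ (KaehlerDifferential.map_surjective R' A D) hQ
    rw [QFCodimOne.mem_support_formallyEtale R' B D, QFCodimOne.mem_support_pushout R R' S B] at h1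
    exact h1
  have het : Algebra.Etale A D := etale_of_finite_normal A D hinj (by rw [hdimA]; exact WithBot.coe_le_coe.2 hq)
    fun Q hQ hmem => by
    let Q'' : PrimeSpectrum B := PrimeSpectrum.comap (algebraMap B D) Q
    have hle : Q''.asIdeal ≤ P' := (Ideal.comap_mono (IsLocalRing.le_maximalIdeal Q.2.ne_top)).trans_eq
      (Localization.AtPrime.under_maximalIdeal (I := P'))
    haveI : Algebra.QuasiFiniteAt S Q''.asIdeal := inferInstance
    have h1 : Q''.asIdeal.height = 1 := by
      rw [← hQ]
      exact IsLocalization.height_under P'.primeCompl Q.asIdeal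
    refine h ⟨Q''.asIdeal.comap (algebraMap S B), inferInstance⟩ ((Ideal.comap_mono hle).trans hP'q.le) ?_ (hsupp Q hmem)
    show (Q''.asIdeal.under S).height = 1
    exact le_antisymm (h1 ▸ height_under_le_of_flat Q''.asIdeal) (h1 ▸ height_le_under_of_qf Q'')
  haveI := het
  -- descend
  let Sq := Localization.AtPrime q.asIdeal
  let φ : Sq →+* D := Localization.localRingHom q.asIdeal P' (algebraMap S B) hP'q.symm
  have hφloc : IsLocalHom φ := Localization.isLocalHom_localRingHom _ _ _ _
  have hcompS : ∀ s, φ (algebraMap S Sq s) = algebraMap B D (algebraMap S B s) :=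
    fun s => Localization.localRingHom_to_map _ _ _ hP'q.symm s
  haveI : Module.Flat R A := Module.Flat.trans R R' A
  haveI : IsScalarTower R A D := IsScalarTower.of_algebraMap_eq fun x => by
    rw [IsScalarTower.algebraMap_apply R R' D, IsScalarTower.algebraMap_apply R R' A]
    exact (ℓ.commutes _).symm
  haveI : Module.Flat A D := Algebra.Smooth.flat A D
  haveI : Module.Flat R D := Module.Flat.trans R A D
  have hφflat : φ.Flat := by
    letI := φ.toAlgebra
    haveI : IsScalarTower S Sq D := IsScalarTower.of_algebraMap_eq fun s => by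
      rw [RingHom.algebraMap_toAlgebra, hcompS, ← IsScalarTower.algebraMap_apply S B D]
    haveI : Module.Flat S D := Module.Flat.trans S B D
    show Module.Flat Sq D
    exact (Module.flat_iff_of_isLocalization Sq q.asIdeal.primeCompl D).mpr inferInstance
  have hRSq : Module.Flat R Sq := RingHom.flat_algebraMap_iff.1 (Triage.CMMor.flat_of_comp (algebraMap R Sq) φ hφflat (by
    have hc : φ.comp (algebraMap R Sq) = algebraMap R D := RingHom.ext fun x => by
      rw [RingHom.comp_apply, IsScalarTower.algebraMap_apply R S Sq, hcompS,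
        IsScalarTower.algebraMap_apply R B D, ← IsScalarTower.algebraMap_apply R S B]
    rw [hc]
    exact RingHom.flat_algebraMap_iff.2 inferInstance))
  haveI : Algebra.IsUnramifiedAt R q.asIdeal := by
    have hmem : q ∈ Algebra.unramifiedLocus R S := by
      rw [Algebra.unramifiedLocus_eq_compl_support]
      intro hmem
      let Qm : PrimeSpectrum D := IsLocalRing.closedPoint D
      haveI : Algebra.FormallyUnramified R' D := Algebra.FormallyUnramified.comp R' A D
      have hempty : Qm ∉ Module.support D Ω[D⁄R'] := by
        rw [Module.support_eq_empty]; exact Set.notMem_empty _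
      rw [QFCodimOne.mem_support_formallyEtale R' B D, QFCodimOne.mem_support_pushout R R' S B] at hempty
      refine hempty ?_
      convert hmem using 1
      refine PrimeSpectrum.ext ?_
      show ((IsLocalRing.maximalIdeal D).comap (algebraMap B D)).comap (algebraMap S B) = q.asIdeal
      rw [show (IsLocalRing.maximalIdeal D).comap (algebraMap B D) = P' from Localization.AtPrime.under_maximalIdeal (I := P')]
      exact hP'q
    exact hmem
  let Rp := Localization.AtPrime p
  letI := Localization.AtPrime.algebraOfLiesOver p q.asIdeal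
  haveI : Module.Flat Rp Sq := (Module.flat_iff_of_isLocalization Rp p.primeCompl Sq).mpr hRSq
  obtain ⟨hsep, hmap⟩ := (Algebra.isUnramifiedAt_iff_map_eq R p q.asIdeal).1 ‹_›
  exact (S9560.result R S p q.asIdeal).2 ⟨inferInstance, hmap, inferInstance, hsep⟩

end Groth.Agent.Pi1Ext.BranchPurity
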