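import Groth.Agent.Pi1Ext.PuritySch
import Groth.Agent.Pi1X.FEtGlobal
import Groth.Agent.Alg6.AssDepth
import Groth.Agent.Alg6.LocLoc
import Groth.Agent.ParaFX.Ufd

/-!
Global sections of finite étale covers of the punctured spectrum of a normal local domain.
-/

set_option autoImplicit false
universe u

open CategoryTheory CategoryTheory.Limits AlgebraicGeometry TopologicalSpace TensorProduct IsLocalRing Opposite

noncomputable section

namespace Groth.Agent.Pi1Ext.NormalSections

open RegPurity PuritySch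

set_option backward.isDefEq.respectTransparency false
set_option backward.isDefEq.respectTransparency.types false
set_option linter.style.haveILetI false

variable {A : Type u} [CommRing A] [IsLocalRing A] (C : Type u) [CommRing C] [Algebra A C]

/-- The open subscheme of `Spec C` over the punctured spectrum. -/
abbrev P : Scheme.{u} := pullback (sp A C) (FEt.puncturedSpec A).ι

/-- Restriction of elements of `C`. -/
def toSec : C →+* Γ(P (A := A) C, ⊤) :=
  ((Scheme.ΓSpecIso (CommRingCat.of C)).inv ≫ (pullback.fst (sp A C) (FEt.puncturedSpec A).ι).appTop).hom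

variable [IsNoetherianRing A]

instance : CompactSpace (P (A := A) C) :=
  QuasiCompact.compactSpace_of_compactSpace (pullback.snd (sp A C) (FEt.puncturedSpec A).ι)

instance : QuasiSeparatedSpace (P (A := A) C) :=
  quasiSeparatedSpace_of_quasiSeparated (pullback.fst (sp A C) (FEt.puncturedSpec A).ι)

theorem isoAway_toSec {g : A} (hg : g ∈ maximalIdeal A) :
    (∀ r, ∃ (n : ℕ) (c : C), toSec (A := A) C (algebraMap A C g) ^ n * r = toSec (A := A) C c) ∧
      ∀ c, toSec (A := A) C c = 0 → ∃ n : ℕ, g ^ n • c = 0 := by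
  let j := pullback.fst (sp A C) (FEt.puncturedSpec A).ι
  let gC : Γ(Spec (CommRingCat.of C), ⊤) := (Scheme.ΓSpecIso (CommRingCat.of C)).inv (algebraMap A C g)
  let D := (Spec (CommRingCat.of C)).basicOpen gC
  have hD : D ≤ j.opensRange := by
    intro q hq
    rw [show D = PrimeSpectrum.basicOpen (algebraMap A C g) from basicOpen_eq_of_affine (R := CommRingCat.of C) _] at hq
    show q ∈ Set.range j
    rw [Scheme.Pullback.range_fst, Scheme.Opens.range_ι]
    show PrimeSpectrum.comap (algebraMap A C) q ≠ IsLocalRing.closedPoint A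
    intro h
    exact hq (show g ∈ (PrimeSpectrum.comap (algebraMap A C) q).asIdeal by rw [h]; exact hg)
  haveI : IsIso (j.app D) := j.isIso_app D hD
  have hbij := ConcreteCategory.bijective_of_isIso (j.app D)
  have hE : j ⁻¹ᵁ D = (P (A := A) C).basicOpen (toSec (A := A) C (algebraMap A C g)) :=
    Scheme.preimage_basicOpen_top j gC
  have hnat : ∀ y : Γ(Spec (CommRingCat.of C), ⊤),
      j.app D ((Spec (CommRingCat.of C)).presheaf.map (homOfLE (le_top : D ≤ ⊤)).op y) =
        (P (A := A) C).presheaf.map (homOfLE (le_top : j ⁻¹ᵁ D ≤ ⊤)).op (j.appTop y) := fun y =>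
    ConcreteCategory.congr_hom (j.naturality (homOfLE (le_top : D ≤ ⊤)).op) y
  refine ⟨fun r => ?_, fun c hc => ?_⟩
  · obtain ⟨z, hz⟩ := hbij.2 ((P (A := A) C).presheaf.map (homOfLE (le_top : j ⁻¹ᵁ D ≤ ⊤)).op r)
    obtain ⟨n, y, hy⟩ := exists_eq_pow_mul_of_isCompact_of_isQuasiSeparated (Spec (CommRingCat.of C)) ⊤
      isCompact_univ isQuasiSeparated_univ gC z
    have h1 : (P (A := A) C).presheaf.map (homOfLE (le_top : j ⁻¹ᵁ D ≤ ⊤)).op
        (j.appTop y - j.appTop gC ^ n * r) = 0 := by
      rw [map_sub, map_mul, map_pow, ← hz, ← hnat, ← hnat, ← map_pow, ← map_mul, ← map_sub]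
      refine (congrArg _ (sub_eq_zero.2 ?_)).trans (map_zero _)
      exact hy
    obtain ⟨m, hm⟩ := exists_pow_mul_eq_zero_of_res_basicOpen_eq_zero_of_isCompact (P (A := A) C)
      (U := ⊤) isCompact_univ (j.appTop y - j.appTop gC ^ n * r) (toSec (A := A) C (algebraMap A C g)) (by
        have h2 := congrArg ((P (A := A) C).presheaf.map (homOfLE hE.ge).op) h1
        rw [map_zero, ← CommRingCat.comp_apply, ← Functor.map_comp] at h2
        exact h2)
    refine ⟨m + n, algebraMap A C g ^ m * (Scheme.ΓSpecIso (CommRingCat.of C)).hom y, ?_⟩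
    rw [map_mul, map_pow, show toSec (A := A) C ((Scheme.ΓSpecIso (CommRingCat.of C)).hom y) = j.appTop y from
      congrArg j.appTop (Iso.hom_inv_id_apply _ y)]
    rw [mul_sub, sub_eq_zero] at hm
    rw [pow_add, mul_assoc]
    exact hm.symm
  · have h1 : (Spec (CommRingCat.of C)).presheaf.map (homOfLE (le_top : D ≤ ⊤)).op
        ((Scheme.ΓSpecIso (CommRingCat.of C)).inv c) = 0 := hbij.1 (by
      rw [hnat, map_zero]
      exact (congrArg _ hc).trans (map_zero _))
    obtain ⟨n, hn⟩ := exists_pow_mul_eq_zero_of_res_basicOpen_eq_zero_of_isCompact (Spec (CommRingCat.of C))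
      (U := ⊤) isCompact_univ _ gC h1
    refine ⟨n, ?_⟩
    have := congrArg (Scheme.ΓSpecIso (CommRingCat.of C)).hom hn
    rw [map_mul, map_pow, map_zero, Iso.inv_hom_id_apply, Iso.inv_hom_id_apply] at this
    rw [Algebra.smul_def, map_pow]
    exact this

theorem eq_zero_of_pow_mul (r : Γ(P (A := A) C, ⊤))
    (h : ∀ g ∈ maximalIdeal A, ∃ n : ℕ, toSec (A := A) C (algebraMap A C g) ^ n * r = 0) : r = 0 := by
  refine TopCat.Presheaf.section_ext (P (A := A) C).sheaf _ _ _ fun x hx => ?_
  show (P (A := A) C).presheaf.germ ⊤ x hx r = (P (A := A) C).presheaf.germ ⊤ x hx 0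
  rw [map_zero]
  obtain ⟨g, hg, hgx⟩ := exists_mem_max (pullback.snd (sp A C) (FEt.puncturedSpec A).ι x)
  obtain ⟨n, hn⟩ := h g hg
  have hu : IsUnit ((P (A := A) C).presheaf.germ ⊤ x hx (toSec (A := A) C (algebraMap A C g))) := by
    refine ((P (A := A) C).mem_basicOpen _ x hx).1 ?_
    show x ∈ (P (A := A) C).basicOpen ((pullback.fst (sp A C) (FEt.puncturedSpec A).ι).appTop _)
    rw [← Scheme.preimage_basicOpen_top]
    show pullback.fst (sp A C) (FEt.puncturedSpec A).ι x ∈ (Spec (CommRingCat.of C)).basicOpen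
      ((Scheme.ΓSpecIso (CommRingCat.of C)).inv (algebraMap A C g))
    rw [basicOpen_eq_of_affine]
    show algebraMap A C g ∉ PrimeSpectrum.asIdeal (pullback.fst (sp A C) (FEt.puncturedSpec A).ι x)
    intro hmem
    refine hgx ?_
    rw [← Scheme.Hom.comp_apply, ← pullback.condition, Scheme.Hom.comp_apply]
    exact hmem
  have := congrArg ((P (A := A) C).presheaf.germ ⊤ x hx) hn
  rw [map_mul, map_pow, map_zero] at this
  exact (hu.pow n).mul_right_eq_zero.1 this

/-- A regular pair in a normal local domain of dimension at least two. -/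
theorem exists_regPair_of_depth [IsDomain A] (hA : (2 : ℕ∞) ≤ LocCoh.depth A A) (hne : ¬ IsField A) :
    ∃ h k : A, h ∈ maximalIdeal A ∧ k ∈ maximalIdeal A ∧ RegPair A h k := by
  obtain ⟨h, hh, hh0⟩ := Submodule.exists_mem_ne_zero_of_ne_bot
    (fun e => hne (IsLocalRing.isField_iff_maximalIdeal_eq.2 e))
  have hreg : IsSMulRegular A h := IsSMulRegular.of_ne_zero hh0
  have hnot := (Alg6.two_le_depth_iff hh hreg).1 hA
  obtain ⟨k, hk, hkreg⟩ := (Alg6.exists_isSMulRegular_mem_iff (M := QuotSMulTop h A) (maximalIdeal A)).mpr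
    (fun p hp hle => hnot (by
      rwa [(IsLocalRing.maximalIdeal.isMaximal A).eq_of_le (IsAssociatedPrime.isPrime hp).ne_top hle]))
  refine ⟨h, k, hh, hk, hh0, fun z hz => ?_⟩
  obtain ⟨w, hw⟩ := hz
  have h0 : (Submodule.Quotient.mk z : QuotSMulTop h A) = 0 := by
    refine hkreg.right_eq_zero_of_smul ?_
    rw [← Submodule.Quotient.mk_smul]
    exact (Submodule.Quotient.mk_eq_zero _).2 ⟨w, Submodule.mem_top, show h • w = k • z by
      rw [smul_eq_mul, smul_eq_mul, hw]⟩
  obtain ⟨v, -, hv⟩ := (Submodule.Quotient.mk_eq_zero _).1 h0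
  exact ⟨v, hv.symm⟩

/-- The sections over the punctured spectrum form a finite algebra. -/
theorem finite_sections [IsDomain A] [Module.Finite A C] (hC : EtOff A C) {h k : A}
    (hh : h ∈ maximalIdeal A) (hk : k ∈ maximalIdeal A) (hr : RegPair A h k) :
    ((toSec (A := A) C).comp (algebraMap A C)).Finite ∧
      (((toSec (A := A) C).comp (algebraMap A C)).Etale →
        ∃ Y : FEt.Cat (Spec (CommRingCat.of A)),
          Nonempty ((FEt.restrict (FEt.puncturedSpec A).ι).obj Y ≅ obj C (prop_rest C hC))) := by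
  let R := Γ(P (A := A) C, ⊤)
  letI : Algebra A R := ((toSec (A := A) C).comp (algebraMap A C)).toAlgebra
  let f : C →ₐ[A] R := { toSec (A := A) C with commutes' := fun a => rfl }
  have hsmul : ∀ (a : A) (r : R), a • r = toSec (A := A) C (algebraMap A C a) * r := fun a r => Algebra.smul_def a r
  have hiso : ∀ g ∈ maximalIdeal A, IsoAway f g := fun g hg => by
    obtain ⟨h1, h2⟩ := isoAway_toSec C hg
    refine ⟨fun r => ?_, h2⟩
    obtain ⟨n, c, hc⟩ := h1 r
    exact ⟨n, c, by rw [hsmul, map_pow, map_pow]; exact hc⟩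
  let K := FractionRing A
  have hh0 : IsUnit (algebraMap A (K ⊗[A] C) h) := by
    rw [IsScalarTower.algebraMap_apply A K (K ⊗[A] C)]
    exact (IsUnit.mk0 _ ((map_ne_zero_iff _ (IsFractionRing.injective A K)).2 hr.1)).map _
  obtain ⟨ψ, hψ⟩ := (hiso h hh).exists_extend
    (Algebra.TensorProduct.includeRight : C →ₐ[A] K ⊗[A] C) hh0
  have haway : ∀ g ∈ maximalIdeal A, ∀ r, ψ r ∈ away C K g := fun g hg r => by
    obtain ⟨n, c, hc⟩ := (hiso g hg).1 r
    exact ⟨n, c, by rw [← map_smul, hc, hψ]; rfl⟩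
  have hinj : Function.Injective ψ := by
    refine (injective_iff_map_eq_zero ψ).2 fun r hr0 => eq_zero_of_pow_mul C r fun g hg => ?_
    obtain ⟨n, c, hc⟩ := (hiso g hg).1 r
    have hc0 : (1 : K) ⊗ₜ[A] c = 0 := by
      show (Algebra.TensorProduct.includeRight : C →ₐ[A] K ⊗[A] C) c = 0
      rw [← hψ, ← hc, map_smul, hr0, smul_zero]
    obtain ⟨m, hm⟩ := eq_zero_of_image_eq_zero (hC g hg) hc0
    refine ⟨m + n, ?_⟩
    have : g ^ (m + n) • r = 0 := by rw [pow_add, mul_smul, hc, ← map_smul, hm, map_zero]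
    rw [hsmul, map_pow, map_pow] at this
    exact this
  have hfin : Module.Finite A R := by
    obtain ⟨e⟩ := lat_equiv_dual C K (hC h hh) hr.1
    obtain ⟨s, π, hπ⟩ := Module.Finite.exists_fin' A C
    haveI : IsNoetherian A (Module.Dual A C) :=
      isNoetherian_of_injective π.dualMap (LinearMap.dualMap_injective_of_surjective hπ)
    haveI : IsNoetherian A (lat (A := A) C K) := isNoetherian_of_linearEquiv e.symm
    exact Module.Finite.of_injective (ψ.toLinearMap.codRestrict _ fun r =>
      mem_lat_of_away hr (hC h hh) (hC k hk) (haway h hh r) (haway k hk r))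
      (fun r r' e => hinj (congrArg Subtype.val e))
  refine ⟨hfin, fun het => ?_⟩
  haveI : Algebra.Etale A R := het
  let Y : FEt.Cat (Spec (CommRingCat.of A)) :=
    MorphismProperty.Over.mk ⊤ (sp A R) (fet_sp_iff.2 ⟨hfin, het⟩)
  obtain ⟨e⟩ := nonempty_iso f hiso (prop_rest C hC)
    (MorphismProperty.pullback_snd _ _ (fet_sp_iff.2 ⟨hfin, het⟩))
  exact ⟨Y, ⟨MorphismProperty.Over.isoMk (Iso.refl _) (by simp [Y]) ≪≫ e⟩⟩

end Groth.Agent.Pi1Ext.NormalSections

end
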