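import Groth.Agent.S18423
import Groth.Agent.MorLib.UnramLocus
import Mathlib

/-!
A flat quasi-finite algebra unramified in codimension one is unramified.
-/

set_option autoImplicit false
set_option linter.style.haveILetI false
set_option maxHeartbeats 1600000
set_option synthInstance.maxHeartbeats 400000
universe u

open TensorProduct

namespace Groth.Agent.Pi1Ext.QFCodimOne

attribute [local instance] Algebra.TensorProduct.rightAlgebra

theorem mem_support_pushout (R R' S B : Type u) [CommRing R] [CommRing R'] [CommRing S] [CommRing B]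
    [Algebra R R'] [Algebra R S] [Algebra R' B] [Algebra S B] [Algebra R B] [IsScalarTower R R' B]
    [IsScalarTower R S B] [Algebra.IsPushout R R' S B] [Algebra.FiniteType R S] (Q : PrimeSpectrum B) :
    Q ∈ Module.support B Ω[B⁄R'] ↔
      PrimeSpectrum.comap (algebraMap S B) Q ∈ Module.support S Ω[S⁄R] := by
  rw [← LinearEquiv.support_eq (KaehlerDifferential.tensorKaehlerEquiv R R' S B)]
  exact MorLib.UnrLocus.support_baseChange_iff _ _

theorem mem_support_formallyEtale (R S T : Type u) [CommRing R] [CommRing S] [CommRing T]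
    [Algebra R S] [Algebra S T] [Algebra R T] [IsScalarTower R S T] [Algebra.FormallyEtale S T]
    [Algebra.FiniteType R S] (Q : PrimeSpectrum T) :
    Q ∈ Module.support T Ω[T⁄R] ↔
      PrimeSpectrum.comap (algebraMap S T) Q ∈ Module.support S Ω[S⁄R] := by
  rw [← LinearEquiv.support_eq (KaehlerDifferential.tensorKaehlerEquivOfFormallyEtale R S T)]
  exact MorLib.UnrLocus.support_baseChange_iff _ _

/-- The inductive step: a point of height at least two below which all non-minimal points are unramified. -/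
theorem step {R S : Type u} [CommRing R] [CommRing S] [Algebra R S] [IsNoetherianRing R]
    [Algebra.FiniteType R S] [Module.Flat R S] (q : PrimeSpectrum S) [Algebra.QuasiFiniteAt R q.asIdeal]
    (q₀ q₁ : PrimeSpectrum S) (h₀ : q₀.asIdeal < q₁.asIdeal) (h₁ : q₁.asIdeal < q.asIdeal)
    (hlow : ∀ s t : PrimeSpectrum S, t.asIdeal < s.asIdeal → s.asIdeal < q.asIdeal →
      s ∉ Module.support S Ω[S⁄R]) :
    q ∉ Module.support S Ω[S⁄R] := by
  let p := q.asIdeal.under R
  obtain ⟨R', _, _, _, P, _, _, e, he, P', _, hP'P, hP'q, heP', -, hfin, huniq⟩ :=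
    Algebra.exists_etale_isIdempotentElem_forall_liesOver_eq (R := R) (S := S) p q.asIdeal
  haveI := hfin
  haveI : IsNoetherianRing R' := Algebra.FiniteType.isNoetherianRing R R'
  haveI : Algebra.QuasiFinite R R' := inferInstance
  let B := R' ⊗[R] S
  haveI : Algebra.Etale S B := Algebra.Etale.of_equiv (A := S ⊗[R] R') (B := B)
    { (Algebra.TensorProduct.comm R S R').toRingEquiv with commutes' := fun _ => rfl }
  haveI : Algebra.QuasiFinite S B := inferInstance
  haveI : Module.Flat S B := inferInstance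
  haveI : Algebra.FiniteType R' B := inferInstance
  let T := Localization.Away e
  haveI : Module.Flat B T := IsLocalization.flat T (Submonoid.powers e)
  haveI : Module.Flat R' T := Module.Flat.trans R' B T
  haveI : Algebra.FormallyEtale B T := Algebra.FormallyEtale.of_isLocalization (Submonoid.powers e)
  have hsub : ∀ Q'' : Ideal B, Q''.IsPrime → Q'' ≤ P' → Q''.comap (algebraMap S B) = q.asIdeal → Q'' = P' :=
    fun Q'' _ hle hc => Algebra.QuasiFiniteAt.eq_of_le_of_under_eq (R := S) hle (hc.trans hP'q.symm)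
  -- a chain below `P'`
  haveI : P'.LiesOver q.asIdeal := ⟨hP'q.symm⟩
  obtain ⟨Q₁, hQ₁, _, hQ₁q⟩ := P'.exists_ideal_lt_liesOver_of_lt (p := q₁.asIdeal) (q := q.asIdeal) h₁
  obtain ⟨Q₀, hQ₀, _, hQ₀q⟩ := Q₁.exists_ideal_lt_liesOver_of_lt (p := q₀.asIdeal) (q := q₁.asIdeal) h₀
  haveI : Algebra.QuasiFiniteAt R' P' := Algebra.QuasiFiniteAt.baseChange q.asIdeal P' hP'q.symm
  haveI : Algebra.QuasiFiniteAt R' Q₁ := Algebra.QuasiFiniteAt.of_le hQ₁.le
  have hP : P'.under R' = P := hP'P.over.symm
  let P₀ := Q₀.under R'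
  let P₁ := Q₁.under R'
  have hP01 : P₀ < P₁ := lt_of_le_of_ne (Ideal.comap_mono hQ₀.le)
    fun h => hQ₀.ne (Algebra.QuasiFiniteAt.eq_of_le_of_under_eq (R := R') hQ₀.le h)
  have hP1P : P₁ < P := hP ▸ lt_of_le_of_ne (Ideal.comap_mono hQ₁.le)
    (fun h => hQ₁.ne (Algebra.QuasiFiniteAt.eq_of_le_of_under_eq (R := R') hQ₁.le h))
  -- the local domain
  let A := Localization.AtPrime P ⧸ P₀.map (algebraMap R' (Localization.AtPrime P))
  have hd₀ : Disjoint (P.primeCompl : Set R') (P₀ : Set R') :=
    Set.disjoint_left.2 fun x hx hx₀ => hx (hP1P.le (hP01.le hx₀))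
  haveI : (P₀.map (algebraMap R' (Localization.AtPrime P))).IsPrime :=
    IsLocalization.isPrime_of_isPrime_disjoint P.primeCompl _ _ inferInstance hd₀
  haveI : IsLocalRing A := IsLocalRing.of_surjective' (Ideal.Quotient.mk _) Ideal.Quotient.mk_surjective
  haveI : IsDomain A := Ideal.Quotient.isDomain _
  have hsurj : Function.Surjective (algebraMap (Localization.AtPrime P) A) := Ideal.Quotient.mk_surjective
  have hbot : (⊥ : Ideal A).comap (algebraMap R' A) = P₀ := by
    rw [IsScalarTower.algebraMap_eq R' (Localization.AtPrime P) A, ← Ideal.comap_comap, ← RingHom.ker_eq_comap_bot,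
      show RingHom.ker (algebraMap (Localization.AtPrime P) A) = _ from Ideal.mk_ker]
    exact IsLocalization.under_map_of_isPrime_disjoint P.primeCompl _ inferInstance hd₀
  have hmax : (IsLocalRing.maximalIdeal A).comap (algebraMap R' A) = P := by
    rw [IsScalarTower.algebraMap_eq R' (Localization.AtPrime P) A, ← Ideal.comap_comap,
      IsLocalRing.eq_maximalIdeal (Ideal.comap_isMaximal_of_surjective _ hsurj)]
    exact Localization.AtPrime.under_maximalIdeal
  have hinjA : ∀ I J : Ideal A, I.comap (algebraMap R' A) = J.comap (algebraMap R' A) → I = J := fun I J h => by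
    rw [IsScalarTower.algebraMap_eq R' (Localization.AtPrime P) A, ← Ideal.comap_comap, ← Ideal.comap_comap] at h
    refine Ideal.comap_injective_of_surjective _ hsurj ?_
    rw [← IsLocalization.map_comap P.primeCompl _ (Ideal.comap (algebraMap (Localization.AtPrime P) A) I),
      ← IsLocalization.map_comap P.primeCompl _ (Ideal.comap (algebraMap (Localization.AtPrime P) A) J)]
    exact congrArg _ h
  obtain ⟨I₁, hI₁, hI₁c⟩ : ∃ I : Ideal A, I.IsPrime ∧ I.comap (algebraMap R' A) = P₁ := by
    have hd₁ : Disjoint (P.primeCompl : Set R') (P₁ : Set R') :=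
      Set.disjoint_left.2 fun x hx hx₁ => hx (hP1P.le hx₁)
    haveI := IsLocalization.isPrime_of_isPrime_disjoint P.primeCompl (Localization.AtPrime P) P₁ inferInstance hd₁
    refine ⟨(P₁.map (algebraMap R' (Localization.AtPrime P))).map (algebraMap (Localization.AtPrime P) A),
      Ideal.map_isPrime_of_surjective hsurj (Ideal.mk_ker.trans_le (Ideal.map_mono hP01.le)), ?_⟩
    rw [IsScalarTower.algebraMap_eq R' (Localization.AtPrime P) A, ← Ideal.comap_comap,
      Ideal.comap_map_of_surjective _ hsurj, ← RingHom.ker_eq_comap_bot,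
      show RingHom.ker (algebraMap (Localization.AtPrime P) A) = _ from Ideal.mk_ker,
      sup_eq_left.2 (Ideal.map_mono hP01.le)]
    exact IsLocalization.under_map_of_isPrime_disjoint P.primeCompl _ inferInstance hd₁
  have hdim : (2 : WithBot ℕ∞) ≤ ringKrullDim A := by
    haveI := hI₁
    have h1 : (⊥ : Ideal A) < I₁ := bot_lt_iff_ne_bot.2 fun h => hP01.ne (by rw [← hbot, ← hI₁c, h])
    have h2 : I₁ < IsLocalRing.maximalIdeal A := lt_of_le_of_ne (IsLocalRing.le_maximalIdeal hI₁.ne_top)
      fun h => hP1P.ne (by rw [← hmax, ← hI₁c, h])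
    let x₀ : PrimeSpectrum A := ⟨⊥, Ideal.isPrime_bot⟩
    let x₁ : PrimeSpectrum A := ⟨I₁, hI₁⟩
    let x₂ : PrimeSpectrum A := ⟨IsLocalRing.maximalIdeal A, inferInstance⟩
    have h1' : x₀ < x₁ := h1
    have h2' : x₁ < x₂ := h2
    have := Order.LTSeries.length_le_krullDim (((RelSeries.singleton _ x₀).snoc x₁ (by simpa using h1')).snoc x₂ (by simpa using h2'))
    exact this
  let T' := A ⊗[R'] T
  haveI : Algebra.FiniteType R' T := inferInstance
  haveI : Module.Finite A T' := inferInstance
  haveI : Module.Flat A T' := inferInstance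
  haveI : Algebra.FinitePresentation A T' :=
    (Algebra.FinitePresentation.of_finiteType (R := A) (A := T')).mp inferInstance
  have hcomap : ∀ Q : PrimeSpectrum T',
      Q ∈ Module.support T' Ω[T'⁄A] ↔ PrimeSpectrum.comap (algebraMap S B)
        (PrimeSpectrum.comap (algebraMap B T) (PrimeSpectrum.comap (algebraMap T T') Q)) ∈ Module.support S Ω[S⁄R] := fun Q => by
    rw [mem_support_pushout R' A T T' Q, mem_support_formallyEtale R' B T, mem_support_pushout R R' S B]
  have hunder : ∀ Q : PrimeSpectrum T',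
      ((Q.asIdeal.comap (algebraMap T T')).comap (algebraMap B T)).comap (algebraMap R' B) =
        (Q.asIdeal.comap (algebraMap A T')).comap (algebraMap R' A) := fun Q => by
    rw [Ideal.comap_comap, Ideal.comap_comap, ← RingHom.comp_assoc, Ideal.comap_comap, RingHom.comp_assoc,
      ← IsScalarTower.algebraMap_eq R' B T, ← IsScalarTower.algebraMap_eq R' T T',
      ← IsScalarTower.algebraMap_eq R' A T']
  have hneA : ∀ (Q : PrimeSpectrum T'), Q.asIdeal.comap (algebraMap A T') ≠ IsLocalRing.maximalIdeal A →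
      Q.asIdeal.comap (algebraMap A T') ≠ ⊥ → Q ∉ Module.support T' Ω[T'⁄A] := by
    intro Q hQm hQb hmem
    rw [hcomap] at hmem
    let Q'' := (Q.asIdeal.comap (algebraMap T T')).comap (algebraMap B T)
    have hr : Q''.under R' = (Q.asIdeal.comap (algebraMap A T')).comap (algebraMap R' A) := hunder Q
    have hr0 : P₀ < Q''.under R' := by
      rw [hr]
      exact lt_of_eq_of_lt hbot.symm (lt_of_le_of_ne (Ideal.comap_mono bot_le) fun h => hQb (hinjA _ _ h).symm)
    have hrP : Q''.under R' ≠ P := by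
      rw [hr]; exact fun h => hQm (hinjA _ _ (h.trans hmax.symm))
    haveI : Q''.LiesOver (Q''.under R') := ⟨rfl⟩
    have hle : Q'' ≤ P' := by
      obtain ⟨Q₂, hQ₂, hQ₂p, hQ₂c⟩ := Ideal.exists_ideal_over_prime_of_isIntegral P
        (Q.asIdeal.comap (algebraMap T T')) (by
          refine le_trans ?_ hmax.le
          rw [show (Q.asIdeal.comap (algebraMap T T')).comap (algebraMap R' T) = Q''.under R' from by
            show _ = ((Q.asIdeal.comap (algebraMap T T')).comap (algebraMap B T)).comap (algebraMap R' B)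
            rw [Ideal.comap_comap (algebraMap R' B) (algebraMap B T), ← IsScalarTower.algebraMap_eq R' B T], hr]
          exact Ideal.comap_mono (IsLocalRing.le_maximalIdeal (Ideal.IsPrime.ne_top inferInstance)))
      haveI := hQ₂p
      have h2 : Q₂.comap (algebraMap B T) = P' := huniq _ inferInstance ⟨by
        show P = (Q₂.comap (algebraMap B T)).comap (algebraMap R' B)
        rw [Ideal.comap_comap, ← IsScalarTower.algebraMap_eq R' B T, hQ₂c]⟩ fun he => by
          exact hQ₂p.ne_top (Ideal.eq_top_of_isUnit_mem _ he (IsLocalization.Away.algebraMap_isUnit e))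
      exact h2 ▸ Ideal.comap_mono hQ₂
    have hne : Q'' ≠ P' := fun h => hrP (h ▸ hP)
    obtain ⟨Q''', hlt, _, -⟩ := Q''.exists_ideal_lt_liesOver_of_lt (p := P₀) (q := Q''.under R') hr0
    let s : PrimeSpectrum S := ⟨Q''.comap (algebraMap S B), inferInstance⟩
    let t : PrimeSpectrum S := ⟨Q'''.comap (algebraMap S B), inferInstance⟩
    refine hlow s t (lt_of_le_of_ne (Ideal.comap_mono hlt.le) fun h =>
      hlt.ne (Algebra.QuasiFiniteAt.eq_of_le_of_under_eq (R := S) hlt.le h)) ?_ hmem
    refine lt_of_le_of_ne ((Ideal.comap_mono hle).trans hP'q.le) fun h => hne (hsub _ inferInstance hle h)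
  have hoff : ∀ Q : PrimeSpectrum T', Q.asIdeal.comap (algebraMap A T') ≠ IsLocalRing.maximalIdeal A →
      Q ∉ Module.support T' Ω[T'⁄A] := by
    intro Q hQm
    by_cases hQb : Q.asIdeal.comap (algebraMap A T') = ⊥
    · haveI := hI₁
      obtain ⟨Q₂, hQ₂, hQ₂p, hQ₂c⟩ := Ideal.exists_ideal_over_prime_of_isIntegral (R := A) (S := T') I₁ Q.asIdeal (by rw [hQb]; exact bot_le)
      refine fun hmem => hneA ⟨Q₂, hQ₂p⟩ ?_ ?_ (Module.mem_support_mono hQ₂ hmem)
      · show Q₂.comap (algebraMap A T') ≠ _
        rw [hQ₂c]; exact fun h => hP1P.ne (by rw [← hmax, ← hI₁c, h])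
      · show Q₂.comap (algebraMap A T') ≠ _
        rw [hQ₂c]; exact fun h => hP01.ne (by rw [← hbot, ← hI₁c, h])
    · exact hneA Q hQm hQb
  have het : Algebra.Etale A T' := S18423.result A T' hdim fun Q hQ => by
    haveI : Algebra.IsUnramifiedAt A Q.asIdeal := by
      have h : Q ∈ Algebra.unramifiedLocus A T' := by
        rw [Algebra.unramifiedLocus_eq_compl_support]; exact hoff Q hQ
      exact h
    exact Algebra.IsEtaleAt.of_isUnramifiedAt_of_flat Q.asIdeal
  haveI := het
  -- a point of `T'` over `P'`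
  have hdT : Disjoint (Submonoid.powers e : Set B) (P' : Set B) :=
    (Ideal.disjoint_powers_iff_notMem_of_isPrime _).2 heP'
  haveI := IsLocalization.isPrime_of_isPrime_disjoint (Submonoid.powers e) T P' inferInstance hdT
  have hPT : (P'.map (algebraMap B T)).comap (algebraMap B T) = P' :=
    IsLocalization.comap_map_of_isPrime_disjoint _ _ inferInstance hdT
  have hPT' : (P'.map (algebraMap B T)).comap (algebraMap R' T) = P := by
    rw [IsScalarTower.algebraMap_eq R' B T, ← Ideal.comap_comap, hPT]; exact hP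
  obtain ⟨Q, hQ⟩ : ∃ Q : PrimeSpectrum T', PrimeSpectrum.comap (algebraMap T T') Q = ⟨P'.map (algebraMap B T), inferInstance⟩ := by
    let K := (P'.map (algebraMap B T)).ResidueField
    have hker : RingHom.ker (algebraMap R' K) = P := by
      rw [IsScalarTower.algebraMap_eq R' T K, ← RingHom.comap_ker, Ideal.ker_algebraMap_residueField]
      exact hPT'
    let ℓ : Localization.AtPrime P →ₐ[R'] K := IsLocalization.liftAlgHom (M := P.primeCompl) (f := Algebra.ofId R' K)
      (fun x => IsUnit.mk0 _ fun h0 => x.2 (hker.le h0))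
    let φ : A →ₐ[R'] K := Ideal.Quotient.liftₐ _ ℓ (fun a ha => by
      have : P₀.map (algebraMap R' (Localization.AtPrime P)) ≤ RingHom.ker ℓ := Ideal.map_le_iff_le_comap.2 fun x hx => by
        show ℓ (algebraMap R' _ x) = 0
        rw [ℓ.commutes]
        exact hker.ge (hP1P.le (hP01.le hx))
      exact this ha)
    let ψ : T' →ₐ[R'] K := Algebra.TensorProduct.lift φ (IsScalarTower.toAlgHom R' T K) fun _ _ => Commute.all _ _
    refine ⟨⟨RingHom.ker ψ, RingHom.ker_isPrime _⟩, PrimeSpectrum.ext ?_⟩
    show (RingHom.ker ψ.toRingHom).comap (algebraMap T T') = P'.map (algebraMap B T)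
    rw [RingHom.comap_ker]
    refine Eq.trans ?_ (Ideal.ker_algebraMap_residueField (P'.map (algebraMap B T)))
    refine congrArg _ (RingHom.ext fun t => ?_)
    show ψ ((1 : A) ⊗ₜ[R'] t) = algebraMap T K t
    simp only [ψ]
    rw [Algebra.TensorProduct.lift_tmul, map_one, one_mul]
    rfl
  intro hq
  have : Q ∈ Module.support T' Ω[T'⁄A] := by
    rw [hcomap, hQ]
    have : (P'.map (algebraMap B T)).comap (algebraMap B T) = P' := hPT
    convert hq using 1
    exact PrimeSpectrum.ext (by
      show ((P'.map (algebraMap B T)).comap (algebraMap B T)).comap (algebraMap S B) = q.asIdeal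
      rw [hPT]; exact hP'q)
  rw [Module.support_eq_empty] at this
  exact this.elim

/-- Flat, quasi-finite, unramified in codimension one: unramified at every non-minimal point. -/
theorem notMem_support_of_codim_one {R S : Type u} [CommRing R] [CommRing S] [Algebra R S] [IsNoetherianRing R]
    [Algebra.FiniteType R S] [Module.Flat R S] (q : PrimeSpectrum S) [Algebra.QuasiFiniteAt R q.asIdeal]
    (h : ∀ q₁ : PrimeSpectrum S, q₁.asIdeal ≤ q.asIdeal → q₁.asIdeal.height = 1 → q₁ ∉ Module.support S Ω[S⁄R])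
    (hq : 1 ≤ q.asIdeal.height) : q ∉ Module.support S Ω[S⁄R] := by
  haveI : IsNoetherianRing S := Algebra.FiniteType.isNoetherianRing R S
  suffices H : ∀ q : PrimeSpectrum S, Algebra.QuasiFiniteAt R q.asIdeal →
      (∀ q₁ : PrimeSpectrum S, q₁.asIdeal ≤ q.asIdeal → q₁.asIdeal.height = 1 → q₁ ∉ Module.support S Ω[S⁄R]) →
      1 ≤ q.asIdeal.height → q ∉ Module.support S Ω[S⁄R] from H q inferInstance h hq
  clear h hq
  intro q
  induction q using WellFounded.induction (InvImage.wf (fun p : PrimeSpectrum S => p.asIdeal.height) wellFounded_lt) with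
  | h q ih =>
    intro _ h hq
    by_cases h1 : q.asIdeal.height = 1
    · exact h q le_rfl h1
    have h2 : 1 < q.asIdeal.height := lt_of_le_of_ne hq (Ne.symm h1)
    obtain ⟨q₁, hq₁, hlt₁, h1q⟩ : ∃ q₁ : Ideal S, q₁.IsPrime ∧ q₁ < q.asIdeal ∧ 0 < q₁.height := by
      by_contra hne
      push_neg at hne
      refine not_lt.2 ((Ideal.height_le_iff (p := q.asIdeal) (n := 1)).2 fun q₁ hq₁ hlt => ?_) h2
      exact lt_of_le_of_lt (hne q₁ hq₁ hlt) zero_lt_one
    obtain ⟨q₀, hq₀, hlt₀⟩ : ∃ q₀ : Ideal S, q₀.IsPrime ∧ q₀ < q₁ := by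
      by_contra hne
      push_neg at hne
      refine not_le.2 h1q ((Ideal.height_le_iff (p := q₁) (n := 0)).2 fun q₀ hq₀ hlt => (hne q₀ hq₀ hlt).elim)
    refine step q ⟨q₀, hq₀⟩ ⟨q₁, hq₁⟩ hlt₀ hlt₁ fun s t hts hsq => ?_
    haveI : Algebra.QuasiFiniteAt R s.asIdeal := Algebra.QuasiFiniteAt.of_le hsq.le
    refine ih s (Ideal.height_strict_mono_of_isPrime hsq) inferInstance
      (fun q' hle => h q' (hle.trans hsq.le)) ?_
    exact Order.one_le_iff_pos.2 (pos_of_gt (Ideal.height_strict_mono_of_isPrime hts))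

end Groth.Agent.Pi1Ext.QFCodimOne
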